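import Mathlib

/-!
# The subgroups of index six of the symmetric group of degree six

They are the six point stabilisers and their images under an outer automorphism.
-/

set_option autoImplicit false

namespace CfsgLib.SymSix

open Equiv MulAction

variable {Ω : Type*} [Fintype Ω] [DecidableEq Ω]

/-- The centre of a symmetric group on at least three points is trivial. -/
theorem eq_one_of_forall_commute (h3 : 3 ≤ Fintype.card Ω) (f : Perm Ω)
    (h : ∀ g : Perm Ω, Commute g f) : f = 1 := by
  by_contra hf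
  obtain ⟨x, hx⟩ : ∃ x, f x ≠ x := by
    by_contra hc
    push Not at hc
    exact hf (Equiv.ext hc)
  obtain ⟨z, hz⟩ : ∃ z, z ∉ ({x, f x} : Finset Ω) := by
    by_contra hc
    push Not at hc
    have h1 : Fintype.card Ω ≤ ({x, f x} : Finset Ω).card :=
      Finset.card_le_card (fun z _ => hc z)
    rw [Finset.card_pair (Ne.symm hx)] at h1
    omega
  simp only [Finset.mem_insert, Finset.mem_singleton, not_or] at hz
  have h1 := congrArg (fun g : Perm Ω => g x) (h (swap (f x) z))
  simp only [Perm.mul_apply, swap_apply_left] at h1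
  rw [swap_apply_of_ne_of_ne (Ne.symm hx) (Ne.symm hz.1)] at h1
  exact hz.2 h1

variable (h6 : Fintype.card Ω = 6)
include h6

theorem card_perm : Nat.card (Perm Ω) = 720 := by
  rw [Nat.card_perm, Nat.card_eq_fintype_card, h6]; rfl

theorem card_of_index {H : Subgroup (Perm Ω)} (hH : H.index = 6) : Nat.card H = 120 := by
  have h := H.card_mul_index
  rw [hH, card_perm h6] at h
  omega

theorem index_stabilizer (a : Ω) : (stabilizer (Perm Ω) a).index = 6 := by
  rw [index_stabilizer_of_transitive, Nat.card_eq_fintype_card, h6]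

theorem normalCore_eq_bot {H : Subgroup (Perm Ω)} (hH : H.index = 6) : H.normalCore = ⊥ := by
  haveI : Nontrivial Ω := Fintype.one_lt_card_iff_nontrivial.1 (by omega)
  haveI : IsSimpleGroup (alternatingGroup Ω) :=
    alternatingGroup.isSimpleGroup (by rw [Nat.card_eq_fintype_card, h6]; norm_num)
  rcases (inferInstance : (H.normalCore.subgroupOf (alternatingGroup Ω)).Normal).eq_bot_or_eq_top
    with hb | ht
  · rw [Subgroup.eq_bot_iff_forall]
    intro f hf
    by_cases hs : Perm.sign f = 1
    · have : (⟨f, hs⟩ : alternatingGroup Ω) ∈ H.normalCore.subgroupOf (alternatingGroup Ω) := hf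
      rw [hb, Subgroup.mem_bot] at this
      simpa [Subtype.ext_iff] using this
    · refine eq_one_of_forall_commute (by omega) f fun g => ?_
      have h1 : g * f * g⁻¹ * f⁻¹ ∈ H.normalCore :=
        H.normalCore.mul_mem (H.normalCore_normal.conj_mem f hf g) (H.normalCore.inv_mem hf)
      have h2 : Perm.sign (g * f * g⁻¹ * f⁻¹) = 1 := by
        simp only [map_mul, map_inv]
        rw [mul_comm (Perm.sign g) (Perm.sign f), mul_inv_cancel_right, mul_inv_cancel]
      have h3 : (⟨g * f * g⁻¹ * f⁻¹, h2⟩ : alternatingGroup Ω) ∈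
          H.normalCore.subgroupOf (alternatingGroup Ω) := h1
      rw [hb, Subgroup.mem_bot] at h3
      have h4 : g * f * g⁻¹ * f⁻¹ = 1 := by simpa [Subtype.ext_iff] using h3
      rw [mul_inv_eq_one, mul_inv_eq_iff_eq_mul] at h4
      exact h4
  · exfalso
    have hle : alternatingGroup Ω ≤ H := fun f hf =>
      H.normalCore_le ((ht ▸ Subgroup.mem_top _ :
        (⟨f, hf⟩ : alternatingGroup Ω) ∈ H.normalCore.subgroupOf (alternatingGroup Ω)))
    have := Subgroup.index_dvd_of_le hle
    rw [alternatingGroup.index_eq_two, hH] at this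
    exact absurd this (by decide)

/-- A subgroup of index six containing a transposition is a point stabiliser. -/
theorem eq_stabilizer_of_isSwap {H : Subgroup (Perm Ω)} (hH : H.index = 6) {s : Perm Ω}
    (hs : s.IsSwap) (hsH : s ∈ H) : ∃ a : Ω, H = stabilizer (Perm Ω) a := by
  haveI : Fact (Nat.Prime 5) := ⟨by norm_num⟩
  obtain ⟨g, hg⟩ := exists_prime_orderOf_dvd_card' (G := H) 5 (by rw [card_of_index h6 hH]; norm_num)
  rw [← Subgroup.orderOf_coe] at hg
  set f : Perm Ω := g.1 with hf
  obtain ⟨n, hn⟩ := Equiv.Perm.cycleType_prime_order (σ := f) (by rw [hg]; norm_num)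
  have hsum := Equiv.Perm.sum_cycleType f
  have hle : f.support.card ≤ 6 := h6 ▸ Finset.card_le_univ _
  rw [hn, hg, Multiset.sum_replicate, smul_eq_mul] at hsum
  have hn0 : n = 0 := by omega
  subst hn0
  have hcyc : f.IsCycle := Equiv.Perm.card_cycleType_eq_one.1 (by rw [hn]; rfl)
  have hcard : (Finset.univ \ f.support).card = 1 := by
    rw [Finset.card_sdiff_of_subset (Finset.subset_univ _), Finset.card_univ, h6]
    omega
  obtain ⟨a, ha⟩ := Finset.card_eq_one.1 hcard
  have hfix : f a = a := by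
    have : a ∈ Finset.univ \ f.support := ha ▸ Finset.mem_singleton_self a
    simpa using this
  have hmove : ∀ x, x ≠ a → f x ≠ x := by
    intro x hx hfx
    have : x ∈ Finset.univ \ f.support := by simp [hfx]
    rw [ha, Finset.mem_singleton] at this
    exact hx this
  have hfpow : ∀ k : ℤ, (f ^ k) a = a := fun k => Perm.zpow_apply_eq_self_of_apply_eq_self hfix k
  have hcon : ∀ x y, x ≠ a → y ≠ a → ∃ h ∈ H, h a = a ∧ h x = y := by
    intro x y hx hy
    obtain ⟨k, hk⟩ := hcyc.exists_zpow_eq (hmove x hx) (hmove y hy)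
    exact ⟨f ^ k, H.zpow_mem g.2 k, hfpow k, hk⟩
  refine ⟨a, ?_⟩
  by_cases hle' : ∀ h ∈ H, h a = a
  · refine Subgroup.eq_of_le_of_card_ge (fun h hh => mem_stabilizer_iff.2 (hle' h hh)) ?_
    rw [card_of_index h6 hH, card_of_index h6 (index_stabilizer h6 a)]
  exfalso
  push Not at hle'
  obtain ⟨h0, hh0, hmv⟩ := hle'
  have htrans : ∀ x, ∃ h ∈ H, h x = a := by
    intro x
    by_cases hx : x = a
    · exact ⟨1, H.one_mem, by simp [hx]⟩
    obtain ⟨h, hh, -, hhx⟩ := hcon x (h0 a) hx hmv
    refine ⟨h0⁻¹ * h, H.mul_mem (H.inv_mem hh0) hh, ?_⟩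
    rw [Perm.mul_apply, hhx, Perm.inv_def, symm_apply_apply]
  have h2t : IsMultiplyPretransitive H Ω 2 := by
    rw [is_two_pretransitive_iff]
    intro x y u v hxy huv
    obtain ⟨h1, hh1, hx⟩ := htrans x
    obtain ⟨h2, hh2, hu⟩ := htrans u
    have hy : h1 y ≠ a := fun h => hxy (h1.injective (hx.trans h.symm))
    have hv : h2 v ≠ a := fun h => huv (h2.injective (hu.trans h.symm))
    obtain ⟨h3, hh3, h3a, h3y⟩ := hcon _ _ hy hv
    refine ⟨⟨h2⁻¹ * h3 * h1, H.mul_mem (H.mul_mem (H.inv_mem hh2) hh3) hh1⟩, ?_, ?_⟩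
    · change (h2⁻¹ * h3 * h1) x = u
      rw [Perm.mul_apply, Perm.mul_apply, hx, h3a, ← hu, Perm.inv_def, symm_apply_apply]
    · change (h2⁻¹ * h3 * h1) y = v
      rw [Perm.mul_apply, Perm.mul_apply, h3y, Perm.inv_def, symm_apply_apply]
  have htop := Equiv.Perm.subgroup_eq_top_of_isPreprimitive_of_isSwap_mem
    (isPreprimitive_of_is_two_pretransitive h2t) s hs hsH
  rw [htop, Subgroup.index_top] at hH
  omega

/-- An odd permutation of order two of six points is a transposition or has three two-cycles. -/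
theorem isSwap_or_triple {f : Perm Ω} (h2 : f ^ 2 = 1) (hs : Perm.sign f = -1) :
    f.IsSwap ∨ f.cycleType = Multiset.replicate 3 2 := by
  have hall : ∀ n ∈ f.cycleType, n = 2 := by
    intro n hn
    have h1 := (Perm.dvd_of_mem_cycleType hn).trans (orderOf_dvd_of_pow_eq_one h2)
    have h2' := Perm.two_le_of_mem_cycleType hn
    have := Nat.le_of_dvd (by norm_num) h1
    omega
  rw [← Multiset.eq_replicate_card] at hall
  set k := Multiset.card f.cycleType with hk
  have hsum := Perm.sum_cycleType f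
  have hle : f.support.card ≤ 6 := h6 ▸ Finset.card_le_univ _
  rw [hall, Multiset.sum_replicate, smul_eq_mul] at hsum
  have hk3 : k ≤ 3 := by omega
  rw [Perm.sign_of_cycleType, hall, Multiset.sum_replicate, Multiset.card_replicate, smul_eq_mul] at hs
  obtain hk0 | hk1 | hk2 | hk3' : k = 0 ∨ k = 1 ∨ k = 2 ∨ k = 3 := by omega
  · rw [hk0] at hs; exact absurd hs (by decide)
  · exact Or.inl (Perm.isSwap_iff_cycleType.2 (by rw [hall, hk1]; rfl))
  · rw [hk2] at hs; exact absurd hs (by decide)
  · exact Or.inr (by rw [hall, hk3'])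

omit h6 in
theorem sign_apply_mulEquiv [Nontrivial Ω] (ψ : Perm Ω ≃* Perm Ω) (f : Perm Ω) :
    Perm.sign (ψ f) = Perm.sign f :=
  DFunLike.congr_fun (Perm.eq_sign_of_surjective_hom
    (s := Perm.sign.comp ψ.toMonoidHom) ((Perm.sign_surjective Ω).comp ψ.surjective)) f

/-- The action on the cosets of a subgroup of index six is an automorphism taking it to a point
stabiliser. -/
theorem exists_mulEquiv_comap_stabilizer {H : Subgroup (Perm Ω)} (hH : H.index = 6) :
    ∃ (ψ : Perm Ω ≃* Perm Ω) (a : Ω), H = (stabilizer (Perm Ω) a).comap ψ.toMonoidHom := by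
  classical
  have hcard : Nat.card (Perm Ω ⧸ H) = Nat.card Ω := by
    rw [Nat.card_eq_fintype_card (α := Ω), h6]; exact hH
  obtain ⟨e⟩ : Nonempty ((Perm Ω ⧸ H) ≃ Ω) := Finite.card_eq.1 hcard
  let φ : Perm Ω →* Perm Ω := e.permCongrHom.toMonoidHom.comp (toPermHom (Perm Ω) (Perm Ω ⧸ H))
  have hinj : Function.Injective φ := by
    refine e.permCongrHom.injective.comp ?_
    rw [← MonoidHom.ker_eq_bot_iff, ← Subgroup.normalCore_eq_ker, normalCore_eq_bot h6 hH]
  let ψ : Perm Ω ≃* Perm Ω := MulEquiv.ofBijective φ (Finite.injective_iff_bijective.1 hinj)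
  refine ⟨ψ, e (QuotientGroup.mk 1), ?_⟩
  ext f
  rw [Subgroup.mem_comap, mem_stabilizer_iff]
  change f ∈ H ↔ e (f • e.symm (e (QuotientGroup.mk 1))) = e (QuotientGroup.mk 1)
  rw [symm_apply_apply, e.apply_eq_iff_eq]
  rw [← mem_stabilizer_iff, stabilizer_quotient]

/-- A transitive subgroup of index six exists. -/
theorem exists_transitive : ∃ H : Subgroup (Perm Ω), H.index = 6 ∧
    ∀ a : Ω, H ≠ stabilizer (Perm Ω) a := by
  classical
  haveI : Fact (Nat.Prime 5) := ⟨by norm_num⟩
  set G := Perm (Fin 5)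
  have hG : Nat.card G = 120 := by rw [Nat.card_perm, Nat.card_fin]; rfl
  let P : Sylow 5 G := default
  have hP : Nat.card (P : Subgroup G) = 5 := by
    have h := P.card_eq_multiplicity
    rw [hG] at h
    have hf : Nat.factorization 120 5 = 1 := by
      rw [show (120 : ℕ) = 5 * 24 by norm_num, Nat.factorization_mul (by norm_num) (by norm_num)]
      simp [Nat.Prime.factorization_self (show Nat.Prime 5 by norm_num), Nat.factorization_eq_zero_of_not_dvd (show ¬ 5 ∣ 24 by norm_num)]
    rw [h, hf, pow_one]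
  have hidx : (P : Subgroup G).index = 24 := by
    have := (P : Subgroup G).card_mul_index
    rw [hP, hG] at this
    omega
  -- five-groups in the symmetric group of degree five are not normal
  have hnn : ¬ (P : Subgroup G).Normal := by
    intro hn
    haveI : IsSimpleGroup (alternatingGroup (Fin 5)) := alternatingGroup.isSimpleGroup (by simp)
    have hle : (P : Subgroup G) ≤ alternatingGroup (Fin 5) := by
      intro f hf
      have h1 : orderOf f ∣ 5 := by
        exact (Subgroup.orderOf_dvd_natCard _ hf).trans (dvd_of_eq hP)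
      have h2 : f ^ 5 = 1 := orderOf_dvd_iff_pow_eq_one.1 h1
      have h3 := congrArg Perm.sign h2
      rw [map_pow, map_one] at h3
      rw [Perm.mem_alternatingGroup]
      rcases Int.units_eq_one_or (Perm.sign f) with h | h
      · exact h
      · rw [h] at h3; exact absurd h3 (by decide)
    have hcA : Nat.card ((P : Subgroup G).subgroupOf (alternatingGroup (Fin 5))) = 5 := by
      rw [Nat.card_congr (Subgroup.subgroupOfEquivOfLe hle).toEquiv, hP]
    rcases (inferInstance : ((P : Subgroup G).subgroupOf (alternatingGroup (Fin 5))).Normal).eq_bot_or_eq_top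
      with h | h
    · rw [h, Subgroup.card_bot] at hcA; omega
    · rw [h, Subgroup.card_top] at hcA
      have h2 := two_mul_nat_card_alternatingGroup (α := Fin 5)
      rw [hcA, hG] at h2
      omega
  have hS : Nat.card (Sylow 5 G) = 6 := by
    have h1 := card_sylow_modEq_one 5 G
    have h2 : Nat.card (Sylow 5 G) ∣ 24 := hidx ▸ P.card_dvd_index
    have h3 : Nat.card (Sylow 5 G) ≠ 1 := by
      intro h
      apply hnn
      rw [← Subgroup.normalizer_eq_top_iff, ← Subgroup.index_eq_one]
      exact P.card_eq_index_normalizer.symm.trans h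
    have h4 := Nat.le_of_dvd (by norm_num) h2
    unfold Nat.ModEq at h1
    interval_cases Nat.card (Sylow 5 G) <;> omega
  obtain ⟨e⟩ : Nonempty (Sylow 5 G ≃ Ω) := Finite.card_eq.1 (by rw [hS, Nat.card_eq_fintype_card, h6])
  let φ : G →* Perm Ω := e.permCongrHom.toMonoidHom.comp (toPermHom G (Sylow 5 G))
  have htr : ∀ a b : Ω, ∃ g : G, φ g a = b := by
    intro a b
    obtain ⟨g, hg⟩ := exists_smul_eq G (e.symm a) (e.symm b)
    refine ⟨g, ?_⟩
    change e (g • e.symm a) = b
    rw [hg, apply_symm_apply]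
  have hinj : Function.Injective φ := by
    refine e.permCongrHom.injective.comp ?_
    rw [← MonoidHom.ker_eq_bot_iff]
    set K := (toPermHom G (Sylow 5 G)).ker with hK
    have hKle : K ≤ Subgroup.normalizer ((P : Subgroup G) : Set G) := by
      intro g hg
      exact Sylow.smul_eq_iff_mem_normalizer.1 (DFunLike.congr_fun (MonoidHom.mem_ker.1 hg) P)
    haveI : IsSimpleGroup (alternatingGroup (Fin 5)) := alternatingGroup.isSimpleGroup (by simp)
    rcases (inferInstance : (K.subgroupOf (alternatingGroup (Fin 5))).Normal).eq_bot_or_eq_top with h | h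
    · rw [Subgroup.eq_bot_iff_forall]
      intro f hf
      by_cases hs : Perm.sign f = 1
      · have : (⟨f, hs⟩ : alternatingGroup (Fin 5)) ∈ K.subgroupOf (alternatingGroup (Fin 5)) := hf
        rw [h, Subgroup.mem_bot] at this
        simpa [Subtype.ext_iff] using this
      · refine eq_one_of_forall_commute (by simp) f fun g => ?_
        have h1 : g * f * g⁻¹ * f⁻¹ ∈ K :=
          K.mul_mem ((inferInstance : K.Normal).conj_mem f hf g) (K.inv_mem hf)
        have h2 : Perm.sign (g * f * g⁻¹ * f⁻¹) = 1 := by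
          simp only [map_mul, map_inv]
          rw [mul_comm (Perm.sign g) (Perm.sign f), mul_inv_cancel_right, mul_inv_cancel]
        have h3 : (⟨g * f * g⁻¹ * f⁻¹, h2⟩ : alternatingGroup (Fin 5)) ∈
            K.subgroupOf (alternatingGroup (Fin 5)) := h1
        rw [h, Subgroup.mem_bot] at h3
        have h4 : g * f * g⁻¹ * f⁻¹ = 1 := by simpa [Subtype.ext_iff] using h3
        rw [mul_inv_eq_one, mul_inv_eq_iff_eq_mul] at h4
        exact h4
    · exfalso
      have hle : alternatingGroup (Fin 5) ≤ Subgroup.normalizer ((P : Subgroup G) : Set G) :=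
        fun f hf => hKle ((h ▸ Subgroup.mem_top _ :
          (⟨f, hf⟩ : alternatingGroup (Fin 5)) ∈ K.subgroupOf (alternatingGroup (Fin 5))))
      have := Subgroup.index_dvd_of_le hle
      rw [alternatingGroup.index_eq_two] at this
      replace this : (6 : ℕ) ∣ 2 := hS ▸ P.card_eq_index_normalizer ▸ this
      exact absurd this (by decide)
  refine ⟨φ.range, ?_, fun a ha => ?_⟩
  · have h := φ.range.card_mul_index
    rw [card_perm h6, Nat.card_congr (MonoidHom.ofInjective hinj).toEquiv.symm, hG] at h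
    omega
  · obtain ⟨b, hb⟩ := Fintype.exists_ne_of_one_lt_card (by omega : 1 < Fintype.card Ω) a
    obtain ⟨g, hg⟩ := htr a b
    have : φ g ∈ stabilizer (Perm Ω) a := ha ▸ ⟨g, rfl⟩
    exact hb (hg.symm.trans this)

omit h6 in
theorem exists_swap_mem_stabilizer (h3 : 3 ≤ Fintype.card Ω) (a : Ω) :
    ∃ s : Perm Ω, s.IsSwap ∧ s ∈ stabilizer (Perm Ω) a := by
  obtain ⟨b, hb⟩ := Fintype.exists_ne_of_one_lt_card (by omega : 1 < Fintype.card Ω) a
  obtain ⟨c, hc⟩ : ∃ c, c ∉ ({a, b} : Finset Ω) := by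
    by_contra hc
    push Not at hc
    have h1 : Fintype.card Ω ≤ ({a, b} : Finset Ω).card := Finset.card_le_card (fun z _ => hc z)
    rw [Finset.card_pair (Ne.symm hb)] at h1
    omega
  simp only [Finset.mem_insert, Finset.mem_singleton, not_or] at hc
  exact ⟨swap b c, ⟨b, c, Ne.symm hc.2, rfl⟩,
    mem_stabilizer_iff.2 (swap_apply_of_ne_of_ne (Ne.symm hb) (Ne.symm hc.1))⟩

omit [Fintype Ω] h6 in
theorem map_conj_stabilizer (g : Perm Ω) (a : Ω) :
    (stabilizer (Perm Ω) a).map (MulAut.conj g).toMonoidHom = stabilizer (Perm Ω) (g a) :=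
  (stabilizer_smul_eq_stabilizer_map_conj g a).symm

omit [Fintype Ω] h6 in
theorem map_conj_comap (ψ : Perm Ω ≃* Perm Ω) (g : Perm Ω) (a : Ω) :
    ((stabilizer (Perm Ω) a).comap ψ.toMonoidHom).map (MulAut.conj g).toMonoidHom =
      (stabilizer (Perm Ω) (ψ g a)).comap ψ.toMonoidHom := by
  rw [← map_conj_stabilizer (ψ g) a]
  ext f
  simp only [Subgroup.mem_map_equiv, Subgroup.mem_comap]
  simp [MulAut.conj_symm_apply, MulAut.conj_inv_apply]

/-- The subgroups of index six are the point stabilisers and their preimages under a fixed outer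
automorphism, and no subgroup is of both kinds. -/
theorem exists_outer : ∃ ψ : Perm Ω ≃* Perm Ω,
    (∀ a b : Ω, (stabilizer (Perm Ω) a).comap ψ.toMonoidHom ≠ stabilizer (Perm Ω) b) ∧
    ∀ H : Subgroup (Perm Ω), H.index = 6 →
      ∃ a : Ω, H = stabilizer (Perm Ω) a ∨ H = (stabilizer (Perm Ω) a).comap ψ.toMonoidHom := by
  haveI : Nontrivial Ω := Fintype.one_lt_card_iff_nontrivial.1 (by omega)
  have key : ∀ H : Subgroup (Perm Ω), H.index = 6 → (∀ a : Ω, H ≠ stabilizer (Perm Ω) a) →
      ∀ (ψ : Perm Ω ≃* Perm Ω) (a : Ω), H = (stabilizer (Perm Ω) a).comap ψ.toMonoidHom →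
        ∃ f ∈ H, f.cycleType = Multiset.replicate 3 2 ∧ (ψ f).IsSwap := by
    intro H hH hne ψ a hψ
    obtain ⟨s, hs, hsa⟩ := exists_swap_mem_stabilizer (by omega) a
    have hmem : ψ.symm s ∈ H := by rw [hψ]; simpa using hsa
    refine ⟨ψ.symm s, hmem, ?_, by rwa [MulEquiv.apply_symm_apply]⟩
    refine (isSwap_or_triple h6 ?_ ?_).resolve_left fun h => ?_
    · obtain ⟨x, y, -, rfl⟩ := hs
      rw [← map_pow, pow_two, swap_mul_self, map_one]
    · rw [sign_apply_mulEquiv, hs.sign_eq]
    · obtain ⟨b, hb⟩ := eq_stabilizer_of_isSwap h6 hH h hmem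
      exact hne b hb
  obtain ⟨H₀, hH₀, hne₀⟩ := exists_transitive h6
  obtain ⟨ψ, a₀, hψ⟩ := exists_mulEquiv_comap_stabilizer h6 hH₀
  refine ⟨ψ, fun a b hab => ?_, fun H hH => ?_⟩
  · obtain ⟨g, hg⟩ := exists_smul_eq (Perm Ω) a a₀
    rw [Perm.smul_def] at hg
    have h1 := map_conj_comap ψ (ψ.symm g) a
    rw [MulEquiv.apply_symm_apply, hg, ← hψ, hab, map_conj_stabilizer] at h1
    exact hne₀ _ h1.symm
  · by_cases hex : ∃ a : Ω, H = stabilizer (Perm Ω) a
    · obtain ⟨a, ha⟩ := hex; exact ⟨a, Or.inl ha⟩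
    push Not at hex
    obtain ⟨ψ', a', hψ'⟩ := exists_mulEquiv_comap_stabilizer h6 hH
    obtain ⟨f, hfH, hf, -⟩ := key H hH hex ψ' a' hψ'
    obtain ⟨f₀, -, hf₀, hsw⟩ := key H₀ hH₀ hne₀ ψ a₀ hψ
    have hconj : IsConj f₀ f := Perm.isConj_iff_cycleType_eq.2 (hf₀.trans hf.symm)
    have hsw' : (ψ f).IsSwap := by
      rw [Perm.isSwap_iff_cycleType] at hsw ⊢
      exact (Perm.isConj_iff_cycleType_eq.1 (ψ.toMonoidHom.map_isConj hconj)).symm.trans hsw
    have hidx : (H.map ψ.toMonoidHom).index = 6 := by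
      exact (Subgroup.index_map_equiv H ψ).trans hH
    obtain ⟨a, ha⟩ := eq_stabilizer_of_isSwap h6 hidx hsw' (Subgroup.mem_map_of_mem ψ.toMonoidHom hfH)
    refine ⟨a, Or.inr ?_⟩
    rw [← ha, Subgroup.comap_map_eq_self_of_injective ψ.injective]

omit h6 in
/-- A point stabiliser is the symmetric group on the other points. -/
theorem nonempty_stabilizer_mulEquiv (a : Ω) {n : ℕ} (hn : Fintype.card Ω = n + 1) :
    Nonempty (stabilizer (Perm Ω) a ≃* Perm (Fin n)) := by
  have hc : Fintype.card {x // x ≠ a} = n := by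
    rw [Fintype.card_subtype_compl, Fintype.card_subtype_eq, hn]; omega
  have hr : (Perm.ofSubtype : Perm {x // x ≠ a} →* Perm Ω).range = stabilizer (Perm Ω) a := by
    ext f
    rw [MonoidHom.mem_range, mem_stabilizer_iff]
    constructor
    · rintro ⟨g, rfl⟩
      exact Perm.ofSubtype_apply_of_not_mem g (by simp)
    · intro hf
      have hf' : ∀ x, f x ≠ a ↔ x ≠ a := fun x =>
        not_congr ⟨fun h => f.injective (h.trans hf.symm), fun h => h ▸ hf⟩
      exact ⟨f.subtypePerm hf', Perm.ofSubtype_subtypePerm hf' fun x hx h => hx (h ▸ hf)⟩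
  exact ⟨((MonoidHom.ofInjective Perm.ofSubtype_injective).trans
    (MulEquiv.subgroupCongr hr)).symm.trans (Fintype.equivFinOfCardEq hc).permCongrHom⟩

end CfsgLib.SymSix
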